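import Groth.Agent.CohDerRlim.ProductD
import Groth.Agent.DAlg.RFTriangle
import Groth.Prelude.Def_DCoh2

/-!
# Right derived functors commute with derived limits
-/

set_option autoImplicit false
set_option backward.isDefEq.respectTransparency false
universe w v u

open CategoryTheory CategoryTheory.Limits CategoryTheory.Pretriangulated

namespace Groth.CohDerRlim

open Groth.DAlg.RFTriangle

variable {A : Type u} [Category.{v} A] [Abelian A] [IsGrothendieckAbelian.{v} A]
  {B : Type u} [Category.{v} B] [Abelian B] (F : A ⥤ B) [F.Additive]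
  [HasDerivedCategory.{w} A] [HasDerivedCategory.{w} B]
  (R : DerivedCategory A ⥤ DerivedCategory B)
  (β : F.mapHomotopyCategory (ComplexShape.up ℤ) ⋙ DerivedCategory.Qh ⟶ DerivedCategory.Qh ⋙ R)
  [R.IsRightDerivedFunctor β (HomotopyCategory.quasiIso A (ComplexShape.up ℤ))]

local notation "qA" => HomotopyCategory.quotient A (ComplexShape.up ℤ)
local notation "qB" => HomotopyCategory.quotient B (ComplexShape.up ℤ)

include β in
theorem additive_rightDerived : R.Additive := by
  refine ⟨fun {X Y} a b => ?_⟩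
  obtain ⟨I, hI, ⟨e⟩⟩ := exists_model (A := A) X
  obtain ⟨J, hJ, ⟨e'⟩⟩ := exists_model (A := A) Y
  haveI := isIso_β F R β I
  haveI := isIso_β F R β J
  obtain ⟨x, hx⟩ := (CochainComplex.IsKInjective.Qh_map_bijective ((qA).obj I) J).2 (e.hom ≫ a ≫ e'.inv)
  obtain ⟨y, hy⟩ := (CochainComplex.IsKInjective.Qh_map_bijective ((qA).obj I) J).2 (e.hom ≫ b ≫ e'.inv)
  have key : R.map (DerivedCategory.Qh.map (x + y)) =
      R.map (DerivedCategory.Qh.map x) + R.map (DerivedCategory.Qh.map y) := by
    rw [← cancel_epi (β.app ((qA).obj I)), Preadditive.comp_add]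
    refine (β.naturality (x + y)).symm.trans ?_
    refine Eq.trans ?_ (congrArg₂ (· + ·) (β.naturality x) (β.naturality y))
    change DerivedCategory.Qh.map ((F.mapHomotopyCategory (ComplexShape.up ℤ)).map (x + y)) ≫ _ = _
    rw [Functor.map_add, Functor.map_add, Preadditive.add_comp]
    rfl
  rw [Functor.map_add, hx, hy, ← Preadditive.comp_add, ← Preadditive.add_comp] at key
  simp only [Functor.map_comp, ← Preadditive.comp_add, ← Preadditive.add_comp] at key
  exact (cancel_mono (R.map e'.inv)).1 ((cancel_epi (R.map e.hom)).1 key)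

variable [HasProductsOfShape ℕ A] [HasProductsOfShape ℕ B]
  [(lim : (Discrete ℕ ⥤ B) ⥤ B).PreservesEpimorphisms] [PreservesLimitsOfShape (Discrete ℕ) F]

/-- The functor on complexes commutes with countable products. -/
theorem exists_prodCx_iso (K : ℕ → CochainComplex A ℤ) :
    ∃ e : (F.mapHomologicalComplex (ComplexShape.up ℤ)).obj (prodCx K) ≅
        prodCx fun n => (F.mapHomologicalComplex (ComplexShape.up ℤ)).obj (K n),
      ∀ n, e.hom ≫ projCx _ n = (F.mapHomologicalComplex (ComplexShape.up ℤ)).map (projCx K n) := by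
  let φ := liftCx fun n => (F.mapHomologicalComplex (ComplexShape.up ℤ)).map (projCx K n)
  have hφ : ∀ i, IsIso (φ.f i) := fun i => by
    let hl := (isLimitOfPreserves F (limit.isLimit (Discrete.functor fun n => (K n).X i)))
    let d : Discrete.functor (fun n => (K n).X i) ⋙ F ≅ Discrete.functor fun n => F.obj ((K n).X i) :=
      Discrete.natIso fun n => Iso.refl _
    let c : Cone (Discrete.functor fun n => F.obj ((K n).X i)) :=
      (Cone.postcompose d.hom).obj (F.mapCone (limit.cone (Discrete.functor fun n => (K n).X i)))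
    have hc : IsLimit c := (IsLimit.postcomposeHomEquiv d _).symm hl
    have e : φ.f i = (hc.conePointUniqueUpToIso (limit.isLimit _)).hom := by
      refine limit.hom_ext fun n => ?_
      refine Eq.trans ?_ (hc.conePointUniqueUpToIso_hom_comp (limit.isLimit _) n).symm
      refine (limit.lift_π (Fan.mk _ fun n => F.map ((projCx K n).f i)) n).trans ?_
      exact (Category.comp_id _).symm
    rw [e]
    infer_instance
  haveI : IsIso φ := HomologicalComplex.Hom.isIso_of_components φ
  exact ⟨asIso φ, fun n => liftCx_π _ n⟩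

include β in
theorem preservesProduct_rightDerived (X : ℕ → DerivedCategory A) :
    PreservesLimit (Discrete.functor X) R := by
  choose J hJ he using fun n => exists_model (A := A) (X n)
  let eX : ∀ n, DerivedCategory.Q.obj (J n) ≅ X n := fun n =>
    ((DerivedCategory.quotientCompQhIso A).app (J n)).symm ≪≫ (he n).some
  suffices PreservesLimit (Discrete.functor fun n => DerivedCategory.Q.obj (J n)) R from
    preservesLimit_of_iso_diagram R (Discrete.natIso (fun n => eX n.as) :
      Discrete.functor (fun n => DerivedCategory.Q.obj (J n)) ≅ Discrete.functor X)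
  haveI := isKInjective_prodCx hJ
  obtain ⟨hlim⟩ := isLimit_prodFan_of_isKInjective J hJ
  obtain ⟨e, he'⟩ := exists_prodCx_iso F J
  obtain ⟨hB⟩ := isLimit_prodFan_of_exact fun n => (F.mapHomologicalComplex (ComplexShape.up ℤ)).obj (J n)
  refine preservesLimit_of_preserves_limit_cone hlim ?_
  let FC := F.mapHomologicalComplex (ComplexShape.up ℤ)
  let γ : ∀ (I : CochainComplex A ℤ), I.IsKInjective →
      (DerivedCategory.Q.obj (FC.obj I) ≅ R.obj (DerivedCategory.Q.obj I)) := fun I hI =>
    haveI := hI
    haveI := isIso_β F R β I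
    ((DerivedCategory.quotientCompQhIso B).app (FC.obj I)).symm ≪≫
      DerivedCategory.Qh.mapIso ((F.mapHomotopyCategoryFactors (ComplexShape.up ℤ)).app I).symm ≪≫
      asIso (β.app ((qA).obj I)) ≪≫ R.mapIso ((DerivedCategory.quotientCompQhIso A).app I)
  have hγ : ∀ {I I' : CochainComplex A ℤ} (hI : I.IsKInjective) (hI' : I'.IsKInjective) (g : I ⟶ I'),
      DerivedCategory.Q.map (FC.map g) ≫ (γ I' hI').hom = (γ I hI).hom ≫ R.map (DerivedCategory.Q.map g) := by
    intro I I' hI hI' g
    have n1 := (DerivedCategory.quotientCompQhIso B).inv.naturality (FC.map g)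
    have n2 := congrArg DerivedCategory.Qh.map ((F.mapHomotopyCategoryFactors (ComplexShape.up ℤ)).inv.naturality g)
    rw [Functor.map_comp, Functor.map_comp] at n2
    have n3 := β.naturality ((qA).map g)
    have n4 := congrArg R.map ((DerivedCategory.quotientCompQhIso A).hom.naturality g)
    rw [Functor.map_comp, Functor.map_comp] at n4
    simp only [Functor.comp_map] at n1 n2 n3 n4
    simp only [γ, Iso.trans_hom, Iso.symm_hom, Functor.mapIso_hom, Iso.app_hom, Iso.app_inv, asIso_hom,
      Category.assoc]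
    erw [reassoc_of% n1, reassoc_of% n2, reassoc_of% n3, n4]
  refine (IsLimit.postcomposeHomEquiv (Discrete.natIso fun n => (γ (J n.as) (hJ n.as)).symm :
    Discrete.functor (fun n => DerivedCategory.Q.obj (J n)) ⋙ R ≅
      Discrete.functor fun n => DerivedCategory.Q.obj (FC.obj (J n))) _).1 (hB.ofIsoLimit (Cone.ext ?_ ?_))
  · exact DerivedCategory.Q.mapIso e.symm ≪≫ γ (prodCx J) inferInstance
  · rintro ⟨n⟩
    change DerivedCategory.Q.map (projCx _ n) = (DerivedCategory.Q.map e.inv ≫ (γ (prodCx J) inferInstance).hom) ≫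
      R.map (DerivedCategory.Q.map (projCx J n)) ≫ (γ (J n) (hJ n)).inv
    rw [Category.assoc, ← reassoc_of% (hγ inferInstance (hJ n) (projCx J n)), Iso.hom_inv_id, Category.comp_id,
      ← Functor.map_comp, ← he' n, Iso.inv_hom_id_assoc]

include β in
theorem isRlim_rightDerived (K : ℕ → DerivedCategory A) (t : ∀ n, K (n + 1) ⟶ K n) (L : DerivedCategory A)
    [HasProduct K] [HasProduct fun n => R.obj (K n)] (hL : DCoh.IsRlim K t L) :
    DCoh.IsRlim (fun n => R.obj (K n)) (fun n => R.map (t n)) (R.obj L) := by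
  obtain ⟨a, c, hc⟩ := hL
  obtain ⟨c', hc'⟩ := exists_distinguished F R β _ hc
  haveI := additive_rightDerived F R β
  haveI := preservesProduct_rightDerived F R β K
  let p : R.obj (∏ᶜ K) ≅ ∏ᶜ fun n => R.obj (K n) := PreservesProduct.iso R K
  have hp : ∀ n, p.hom ≫ Pi.π (fun n => R.obj (K n)) n = R.map (Pi.π K n) := fun n => by
    simp [p]
  refine ⟨R.map a ≫ p.hom, p.inv ≫ c', Pretriangulated.isomorphic_distinguished _ hc' _
    (Pretriangulated.Triangle.isoMk _ _ (Iso.refl _) p.symm p.symm ?_ ?_ ?_)⟩
  · change (R.map a ≫ p.hom) ≫ p.inv = 𝟙 _ ≫ R.map a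
    rw [Category.id_comp, Category.assoc, Iso.hom_inv_id, Category.comp_id]
  · change Pi.lift _ ≫ p.inv = p.inv ≫ R.map (Pi.lift fun n => Pi.π K n - Pi.π K (n + 1) ≫ t n)
    rw [Iso.comp_inv_eq, Category.assoc, Iso.eq_inv_comp]
    refine Limits.Pi.hom_ext _ _ fun n => ?_
    rw [Category.assoc, Category.assoc, Pi.lift_π, hp, Preadditive.comp_sub, hp, reassoc_of% (hp (n + 1)),
      ← Functor.map_comp, ← Functor.map_comp, Pi.lift_π, Functor.map_sub]
  · change (p.inv ≫ c') ≫ (shiftFunctor _ (1 : ℤ)).map (𝟙 _) = p.inv ≫ c'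
    rw [CategoryTheory.Functor.map_id]
    exact Category.comp_id _

end Groth.CohDerRlim
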