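import Groth.Agent.DerivedCoh.KInj.Products
import Mathlib.Algebra.Homology.HomologicalComplexLimits
import Mathlib.Algebra.Homology.DerivedCategory.Fractions
import Mathlib.Algebra.Homology.QuasiIso

/-!
# Countable products in derived categories
-/

set_option autoImplicit false
universe w v u

open CategoryTheory CategoryTheory.Limits HomologicalComplex CochainComplex

namespace Groth.CohDerRlim

variable {B : Type u} [Category.{v} B] [Abelian B] [HasProductsOfShape ℕ B]

section Cx

variable (K : ℕ → CochainComplex B ℤ)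

/-- A family of complexes as a complex in the category of families. -/
@[simps]
noncomputable def famCx : CochainComplex (Discrete ℕ ⥤ B) ℤ where
  X i := Discrete.functor fun n => (K n).X i
  d i j := Discrete.natTrans fun n => (K n.as).d i j
  shape i j h := by ext n; exact (K n.as).shape i j h
  d_comp_d' i j k _ _ := by ext n; exact (K n.as).d_comp_d i j k

/-- The termwise product of a family of complexes. -/
noncomputable def prodCx : CochainComplex B ℤ :=
  ((lim : (Discrete ℕ ⥤ B) ⥤ B).mapHomologicalComplex (ComplexShape.up ℤ)).obj (famCx K)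

/-- The projections. -/
noncomputable def projCx (n : ℕ) : prodCx K ⟶ K n where
  f i := limit.π (Discrete.functor fun n => (K n).X i) ⟨n⟩
  comm' i j _ := (limMap_π ((famCx K).d i j) ⟨n⟩).symm

variable {K}

theorem prodCx_hom_ext {a : B} {i : ℤ} (x y : a ⟶ (prodCx K).X i)
    (h : ∀ n, x ≫ (projCx K n).f i = y ≫ (projCx K n).f i) : x = y :=
  limit.hom_ext fun n => h n.as

theorem hom_ext_prodCx {M : CochainComplex B ℤ} (f g : M ⟶ prodCx K)
    (h : ∀ n, f ≫ projCx K n = g ≫ projCx K n) : f = g :=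
  HomologicalComplex.hom_ext _ _ fun i => prodCx_hom_ext _ _ fun n =>
    congrArg (fun z : M ⟶ K n => z.f i) (h n)

/-- The map into the product. -/
noncomputable def liftCx {M : CochainComplex B ℤ} (φ : ∀ n, M ⟶ K n) : M ⟶ prodCx K where
  f i := limit.lift (Discrete.functor fun n => (K n).X i) (Fan.mk (M.X i) fun n => (φ n).f i)
  comm' i j _ := prodCx_hom_ext _ _ fun n => by
    refine (Category.assoc _ _ _).trans ((congrArg (_ ≫ ·) ((projCx K n).comm i j).symm).trans ?_)
    refine Eq.trans ?_ ((congrArg (M.d i j ≫ ·) (limit.lift_π (Fan.mk (M.X j) fun n => (φ n).f j) ⟨n⟩).symm).trans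
      (Category.assoc _ _ _).symm)
    refine ((Category.assoc _ _ _).symm.trans (congrArg (· ≫ (K n).d i j)
      (limit.lift_π (Fan.mk (M.X i) fun n => (φ n).f i) ⟨n⟩))).trans ?_
    exact (φ n).comm i j

theorem liftCx_π {M : CochainComplex B ℤ} (φ : ∀ n, M ⟶ K n) (n : ℕ) : liftCx φ ≫ projCx K n = φ n :=
  HomologicalComplex.hom_ext _ _ fun i => limit.lift_π (Fan.mk (M.X i) fun n => (φ n).f i) ⟨n⟩

theorem homotopic_prodCx {M : CochainComplex B ℤ} (f g : M ⟶ prodCx K)
    (h : ∀ n, Nonempty (Homotopy (f ≫ projCx K n) (g ≫ projCx K n))) : Nonempty (Homotopy f g) := by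
  let H := fun n => (h n).some
  let hom : ∀ i j, M.X i ⟶ (prodCx K).X j := fun i j =>
    limit.lift (Discrete.functor fun n => (K n).X j) (Fan.mk (M.X i) fun n => (H n).hom i j)
  have hπ : ∀ i j n, hom i j ≫ (projCx K n).f j = (H n).hom i j := fun i j n => limit.lift_π (Fan.mk (M.X i) fun n => (H n).hom i j) ⟨n⟩
  refine ⟨{ hom := hom, zero := fun i j hij => ?_, comm := fun i => ?_ }⟩
  · refine prodCx_hom_ext _ _ fun n => ?_
    rw [hπ, zero_comp, (H n).zero i j hij]
  · refine prodCx_hom_ext _ _ fun n => ?_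
    have hr : (ComplexShape.up ℤ).Rel i (i + 1) := by simp
    have hl : (ComplexShape.up ℤ).Rel (i - 1) i := by simp
    have := (H n).comm i
    rw [dNext_eq _ hr, prevD_eq _ hl] at this ⊢
    simp only [comp_f] at this
    simp only [Preadditive.add_comp, Category.assoc]
    rw [this, hπ, ← (projCx K n).comm (i - 1) i, ← Category.assoc (hom i (i - 1)), hπ]

theorem isKInjective_prodCx (hK : ∀ n, (K n).IsKInjective) : (prodCx K).IsKInjective :=
  ⟨fun {M} f hM => homotopic_prodCx f 0 fun n =>
    ⟨((hK n).nonempty_homotopy_zero (f ≫ projCx K n) hM).some.trans (Homotopy.ofEq zero_comp.symm)⟩⟩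

/-- The map of products. -/
noncomputable def mapCx {K' : ℕ → CochainComplex B ℤ} (s : ∀ n, K n ⟶ K' n) : prodCx K ⟶ prodCx K' :=
  ((lim : (Discrete ℕ ⥤ B) ⥤ B).mapHomologicalComplex (ComplexShape.up ℤ)).map
    { f := fun i => Discrete.natTrans fun n => (s n.as).f i
      comm' := fun i j _ => by ext n; exact (s n.as).comm i j }

theorem mapCx_π {K' : ℕ → CochainComplex B ℤ} (s : ∀ n, K n ⟶ K' n) (n : ℕ) :
    mapCx s ≫ projCx K' n = projCx K n ≫ s n :=
  HomologicalComplex.hom_ext _ _ fun i => limMap_π _ _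

variable [(lim : (Discrete ℕ ⥤ B) ⥤ B).PreservesEpimorphisms]

theorem quasiIso_mapCx {K' : ℕ → CochainComplex B ℤ} (s : ∀ n, K n ⟶ K' n) (hs : ∀ n, QuasiIso (s n)) :
    QuasiIso (mapCx s) := by
  haveI : (lim : (Discrete ℕ ⥤ B) ⥤ B).Additive := Functor.additive_of_preserves_binary_products _
  haveI : (lim : (Discrete ℕ ⥤ B) ⥤ B).PreservesHomology :=
    Functor.preservesHomology_of_preservesEpis_and_kernels _
  let σ : famCx K ⟶ famCx K' :=
    { f := fun i => Discrete.natTrans fun n => (s n.as).f i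
      comm' := fun i j _ => by ext n; exact (s n.as).comm i j }
  haveI : QuasiIso σ := by
    rw [quasiIso_iff]
    intro i
    rw [quasiIsoAt_iff, ShortComplex.quasiIso_iff]
    let φ := (HomologicalComplex.shortComplexFunctor (Discrete ℕ ⥤ B) (ComplexShape.up ℤ) i).map σ
    have h : ∀ n, IsIso (((evaluation (Discrete ℕ) B).obj n).map (ShortComplex.homologyMap φ)) := fun n => by
      have h1 : QuasiIsoAt ((((evaluation (Discrete ℕ) B).obj n).mapHomologicalComplex (ComplexShape.up ℤ)).map σ) i :=
        haveI : QuasiIso ((((evaluation (Discrete ℕ) B).obj n).mapHomologicalComplex (ComplexShape.up ℤ)).map σ) :=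
          hs n.as
        inferInstance
      rw [quasiIsoAt_iff, ShortComplex.quasiIso_iff] at h1
      exact (NatIso.isIso_map_iff (ShortComplex.homologyFunctorIso ((evaluation (Discrete ℕ) B).obj n)) φ).1 h1
    haveI : ∀ n, IsIso ((ShortComplex.homologyMap φ).app n) := h
    exact NatIso.isIso_of_isIso_app _
  haveI : QuasiIso (((lim : (Discrete ℕ ⥤ B) ⥤ B).mapHomologicalComplex (ComplexShape.up ℤ)).map σ) :=
    HomologicalComplex.quasiIso_map_of_preservesHomology σ _
  exact inferInstanceAs (QuasiIso (((lim : (Discrete ℕ ⥤ B) ⥤ B).mapHomologicalComplex (ComplexShape.up ℤ)).map σ))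

end Cx

section Derived

open DerivedCategory

variable [HasDerivedCategory.{w} B] (K : ℕ → CochainComplex B ℤ)

/-- The product fan in the derived category. -/
noncomputable def prodFan : Fan fun n => Q.obj (K n) :=
  Fan.mk (Q.obj (prodCx K)) fun n => Q.map (projCx K n)

theorem nonempty_isLimit_of_existsUnique
    (h : ∀ (M : CochainComplex B ℤ) (φ : ∀ n, Q.obj M ⟶ Q.obj (K n)),
      ∃ l : Q.obj M ⟶ Q.obj (prodCx K), ∀ n, l ≫ Q.map (projCx K n) = φ n)
    (h' : ∀ (M : CochainComplex B ℤ) (l : Q.obj M ⟶ Q.obj (prodCx K)),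
      (∀ n, l ≫ Q.map (projCx K n) = 0) → l = 0) : Nonempty (IsLimit (prodFan K)) := by
  have hex : ∀ s : Fan (fun n => Q.obj (K n)), ∃! l : s.pt ⟶ Q.obj (prodCx K),
      ∀ n, l ≫ Q.map (projCx K n) = s.proj n := fun s => by
    let M := (Q (C := B)).objPreimage s.pt
    let ε : Q.obj M ≅ s.pt := (Q (C := B)).objObjPreimageIso s.pt
    obtain ⟨l, hl⟩ := h M fun n => ε.hom ≫ s.proj n
    refine ⟨ε.inv ≫ l, fun n => ?_, fun l' hl' => ?_⟩
    · rw [Category.assoc, hl, Iso.inv_hom_id_assoc]
    · rw [← cancel_epi ε.hom, Iso.hom_inv_id_assoc, ← sub_eq_zero]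
      refine h' M _ fun n => ?_
      rw [Preadditive.sub_comp, Category.assoc, hl', hl, sub_self]
  exact ⟨Fan.IsLimit.mk _ (fun s => (hex s).choose) (fun s n => (hex s).choose_spec.1 n)
    (fun s m hm => (hex s).choose_spec.2 m hm)⟩

omit [HasProductsOfShape ℕ B] in
theorem quasiIso_of_isIso_Q_map {X Y : CochainComplex B ℤ} (s : X ⟶ Y) (h : IsIso (Q.map s)) : QuasiIso s :=
  (DerivedCategory.isIso_Q_map_iff_quasiIso B s).1 h

theorem isLimit_prodFan_of_exact [(lim : (Discrete ℕ ⥤ B) ⥤ B).PreservesEpimorphisms] :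
    Nonempty (IsLimit (prodFan K)) := by
  refine nonempty_isLimit_of_existsUnique K (fun M φ => ?_) fun M l hl => ?_
  · choose K' g s hs hφ using fun n => left_fac (φ n)
    haveI := quasiIso_mapCx s fun n => quasiIso_of_isIso_Q_map _ (hs n)
    refine ⟨Q.map (liftCx g) ≫ inv (Q.map (mapCx s)), fun n => ?_⟩
    haveI := hs n
    rw [hφ n, Category.assoc, ← cancel_mono (Q.map (s n)), Category.assoc, Category.assoc,
      ← Functor.map_comp (Q (C := B)) (projCx K n), ← mapCx_π, Functor.map_comp, IsIso.inv_hom_id_assoc,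
      ← Functor.map_comp, liftCx_π, Category.assoc, IsIso.inv_hom_id, Category.comp_id]
  · obtain ⟨M', t, ht, a, rfl⟩ := right_fac l
    suffices Q.map a = 0 by rw [this, comp_zero]
    have hn : ∀ n, ∃ (K' : CochainComplex B ℤ) (s : K n ⟶ K'), QuasiIso s ∧
        Nonempty (Homotopy (a ≫ projCx K n ≫ s) 0) := fun n => by
      have h0 : Q.map (a ≫ projCx K n) = Q.map 0 := by
        rw [Functor.map_zero, Functor.map_comp, ← cancel_epi (inv (Q.map t)), comp_zero, ← Category.assoc, hl n]
      have h1 : Qh.map ((HomotopyCategory.quotient B (ComplexShape.up ℤ)).map (a ≫ projCx K n)) =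
          Qh.map ((HomotopyCategory.quotient B (ComplexShape.up ℤ)).map 0) := by
        rw [← cancel_mono ((quotientCompQhIso B).hom.app (K n))]
        exact ((quotientCompQhIso B).hom.naturality _).trans
          ((congrArg (_ ≫ ·) h0).trans ((quotientCompQhIso B).hom.naturality _).symm)
      obtain ⟨Z, q, hq, e⟩ := (MorphismProperty.map_eq_iff_postcomp Qh (HomotopyCategory.quasiIso B _) _ _).1 h1
      obtain ⟨Z', rfl⟩ := HomotopyCategory.quotient_obj_surjective Z
      obtain ⟨q', rfl⟩ := (HomotopyCategory.quotient B _).map_surjective q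
      refine ⟨Z', q', (HomotopyCategory.quotient_map_mem_quasiIso_iff q').1 hq |> (HomologicalComplex.mem_quasiIso_iff q').1,
        ⟨HomotopyCategory.homotopyOfEq _ _ ?_⟩⟩
      rw [Functor.map_zero, ← Category.assoc, Functor.map_comp, e, Functor.map_zero, zero_comp]
    choose K' s hs hh using hn
    haveI := quasiIso_mapCx s hs
    haveI : IsIso (Q.map (mapCx s)) := (isIso_Q_map_iff_quasiIso B _).2 inferInstance
    obtain ⟨H⟩ := homotopic_prodCx (a ≫ mapCx s) 0 fun n =>
      ⟨(Homotopy.ofEq (by rw [Category.assoc, mapCx_π])).trans ((hh n).some.trans (Homotopy.ofEq zero_comp.symm))⟩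
    have h2 : Q.map (a ≫ mapCx s) = 0 := by
      rw [← cancel_epi ((quotientCompQhIso B).hom.app M'), comp_zero]
      exact ((quotientCompQhIso B).hom.naturality _).symm.trans ((congrArg (· ≫ _)
        ((congrArg Qh.map (HomotopyCategory.eq_of_homotopy _ _ H)).trans
          (by rw [Functor.map_zero, Functor.map_zero]))).trans zero_comp)
    rw [Functor.map_comp] at h2
    exact (cancel_mono (Q.map (mapCx s))).1 (h2.trans zero_comp.symm)

theorem isLimit_prodFan_of_isKInjective [IsGrothendieckAbelian.{v} B] (hK : ∀ n, (K n).IsKInjective) :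
    Nonempty (IsLimit (prodFan K)) := by
  haveI := isKInjective_prodCx hK
  refine nonempty_isLimit_of_existsUnique K (fun M φ => ?_) fun M l hl => ?_
  · haveI := hK
    choose g hg using fun n => DerivedCoh.KInjRes.Q_map_surjective M (K n) (φ n)
    exact ⟨Q.map (liftCx g), fun n => by rw [← Functor.map_comp, liftCx_π, hg]⟩
  · obtain ⟨a, rfl⟩ := DerivedCoh.KInjRes.Q_map_surjective M _ l
    rw [← Functor.map_zero, DerivedCoh.KInjRes.Q_map_eq_iff]
    refine homotopic_prodCx _ _ fun n => ?_
    haveI := hK n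
    rw [← DerivedCoh.KInjRes.Q_map_eq_iff, Functor.map_comp, hl, zero_comp, Functor.map_zero]

end Derived

end Groth.CohDerRlim
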